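import Cfsg.Prelude.Def_CaseTheorems
import Cfsg.Agent.H60.CoverMult
import Cfsg.Agent.H487.SchurPerfect
import Cfsg.Agent.H487.SchurCover

/-!
# Quasisimple groups as quotients of the universal cover (helper124, S4907, DM18 and DM28)

* `exists_cov` : `β : UU Q →* G` over `Q`;
* `iso_of_ker` : equal kernels give isomorphic groups;
* `iso_of_mult` : quasisimple groups with the same central quotient and centres of the same order are isomorphic,
  if the multiplier has only one subgroup of this index.
-/

set_option autoImplicit false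

namespace Cfsg.Agent.H124.DM

open Cfsg Function Cfsg.Agent.H487

universe u v u₁ u₂

section

variable {Q : Type u} [Group Q] {G : Type u₁} [Group G] {H : Type u₂} [Group H]

/-- the projection of a quasisimple group onto a group isomorphic to its central quotient -/
def prj (eG : G ⧸ Subgroup.center G ≃* Q) : G →* Q := eG.toMonoidHom.comp (QuotientGroup.mk' (Subgroup.center G))

theorem prj_surj (eG : G ⧸ Subgroup.center G ≃* Q) : Surjective (prj eG) :=
  eG.surjective.comp (QuotientGroup.mk'_surjective _)

theorem prj_ker (eG : G ⧸ Subgroup.center G ≃* Q) : (prj eG).ker = Subgroup.center G := by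
  ext x
  rw [MonoidHom.mem_ker]
  show eG (QuotientGroup.mk x) = 1 ↔ _
  rw [map_eq_one_iff _ eG.injective, QuotientGroup.eq_one_iff]

/-- **The universal cover dominates.** -/
theorem exists_cov (hG : commutator G = ⊤) (eG : G ⧸ Subgroup.center G ≃* Q) :
    ∃ β : UU Q →* G, Surjective β ∧ (prj eG).comp β = prU Q := by
  have hQ : commutator Q = ⊤ := by
    have h1 := Subgroup.map_commutator (⊤ : Subgroup G) ⊤ (prj eG)
    rw [Subgroup.map_top_of_surjective _ (prj_surj eG), ← commutator_def, ← commutator_def, hG,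
      Subgroup.map_top_of_surjective _ (prj_surj eG)] at h1
    exact h1.symm
  obtain ⟨β, hβ⟩ := exists_prU_lift Q (MonoidHom.id Q) (prj_surj eG) (prj_ker eG).le
  rw [MonoidHom.id_comp] at hβ
  refine ⟨β, ?_, hβ⟩
  exact H60.CoverMult.surjective_of_comp (isPerfect_UU ⟨hQ⟩).commutator_eq_top (prU_surjective ⟨hQ⟩)
    ⟨prj_surj eG, (prj_ker eG).le, by rw [hG]; exact le_top⟩ hβ

theorem ker_le {β : UU Q →* G} {eG : G ⧸ Subgroup.center G ≃* Q} (h : (prj eG).comp β = prU Q) :
    β.ker ≤ (prU Q).ker := by
  intro x hx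
  rw [MonoidHom.mem_ker] at hx ⊢
  rw [← h, MonoidHom.comp_apply, hx, map_one]

theorem map_ker {β : UU Q →* G} {eG : G ⧸ Subgroup.center G ≃* Q} (hs : Surjective β)
    (h : (prj eG).comp β = prU Q) : (prU Q).ker.map β = Subgroup.center G := by
  have h1 : (prU Q).ker = (Subgroup.center G).comap β := by
    rw [← prj_ker eG, MonoidHom.comap_ker, h]
  rw [h1, Subgroup.map_comap_eq_self_of_surjective hs]

theorem relIndex_ker {β : UU Q →* G} {eG : G ⧸ Subgroup.center G ≃* Q} (hs : Surjective β)
    (h : (prj eG).comp β = prU Q) : β.ker.relIndex (prU Q).ker = Nat.card (Subgroup.center G) := by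
  rw [Subgroup.relIndex_ker, map_ker hs h]

/-- equal kernels -/
theorem iso_of_ker {β : UU Q →* G} {γ : UU Q →* H} (hβ : Surjective β) (hγ : Surjective γ)
    (h : β.ker = γ.ker) : Nonempty (G ≃* H) :=
  ⟨(QuotientGroup.quotientKerEquivOfSurjective β hβ).symm.trans
    ((QuotientGroup.quotientMulEquivOfEq h).trans (QuotientGroup.quotientKerEquivOfSurjective γ hγ))⟩

/-- kernels conjugate under an automorphism of the universal cover -/
theorem iso_of_map_ker {β : UU Q →* G} {γ : UU Q →* H} (hβ : Surjective β) (hγ : Surjective γ)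
    (α : UU Q ≃* UU Q) (h : ∀ x, x ∈ β.ker ↔ α x ∈ γ.ker) : Nonempty (G ≃* H) := by
  refine iso_of_ker hβ (γ := γ.comp α.toMonoidHom) (hγ.comp α.surjective) ?_
  ext x
  rw [h x]
  rfl

end

theorem iso_of_mult {Q : Type u} [Group Q] [Finite Q] {A : Type v} [CommGroup A] [Finite A]
    (hA : HasSchurMultiplier Q A) {G : Type u₁} {H : Type u₂} [Group G] [Finite G] [Group H] [Finite H]
    (hG : Cfsg.IsQuasisimple G) (hH : Cfsg.IsQuasisimple H) (eG : G ⧸ Subgroup.center G ≃* Q)
    (eH : H ⧸ Subgroup.center H ≃* Q) (hc : Nat.card (Subgroup.center G) = Nat.card (Subgroup.center H))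
    (hu : ∀ X Y : Subgroup A, X.index = Nat.card (Subgroup.center G) → Y.index = Nat.card (Subgroup.center G) →
      X = Y) : Nonempty (G ≃* H) := by
  obtain ⟨β, hβs, hβ⟩ := exists_cov hG.1.commutator_eq_top eG
  obtain ⟨γ, hγs, hγ⟩ := exists_cov hH.1.commutator_eq_top eH
  obtain ⟨e1⟩ := nonempty_mulEquiv_MM hA
  obtain ⟨e2⟩ := nonempty_prU_ker Q
  set e : A ≃* (prU Q).ker := e1.trans e2.symm with he
  have key := hu ((β.ker.subgroupOf (prU Q).ker).comap e.toMonoidHom) ((γ.ker.subgroupOf (prU Q).ker).comap e.toMonoidHom)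
    (by
      rw [Subgroup.index_comap_of_surjective _ e.surjective]
      exact relIndex_ker hβs hβ)
    (by
      rw [Subgroup.index_comap_of_surjective _ e.surjective, hc]
      exact relIndex_ker hγs hγ)
  have key2 : β.ker.subgroupOf (prU Q).ker = γ.ker.subgroupOf (prU Q).ker := by
    apply Subgroup.comap_injective (f := e.toMonoidHom) e.surjective key
  refine iso_of_ker hβs hγs ?_
  have h1 := congrArg (fun z : Subgroup (prU Q).ker => z.map (prU Q).ker.subtype) key2
  simp only [Subgroup.map_subgroupOf_eq_of_le (ker_le hβ), Subgroup.map_subgroupOf_eq_of_le (ker_le hγ)] at h1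
  exact h1

/-- subgroups of index `n` in `A` are unique if `|A : A^n| ≤ n` -/
theorem unique_of_pow {A : Type v} [CommGroup A] [Finite A] {n : ℕ} (h : (powMonoidHom n : A →* A).range.index ≤ n)
    (X Y : Subgroup A) (hX : X.index = n) (hY : Y.index = n) : X = Y := by
  have key : ∀ X : Subgroup A, X.index = n → (powMonoidHom n : A →* A).range = X := by
    intro X hX
    have hle : (powMonoidHom n : A →* A).range ≤ X := by
      rintro _ ⟨a, rfl⟩
      show a ^ n ∈ X
      rw [← hX]
      exact X.pow_index_mem a
    have h1 := Subgroup.relIndex_mul_index hle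
    have hXp : 0 < X.index := Nat.pos_of_ne_zero Subgroup.index_ne_zero_of_finite
    have h2 : (powMonoidHom n : A →* A).range.relIndex X = 1 := by
      rw [hX] at h1 hXp
      have h3 : 0 < (powMonoidHom n : A →* A).range.relIndex X := by
        rcases Nat.eq_zero_or_pos ((powMonoidHom n : A →* A).range.relIndex X) with h | h
        · rw [h, zero_mul] at h1
          exact absurd h1.symm Subgroup.index_ne_zero_of_finite
        · exact h
      by_contra h4
      have h5 : 2 ≤ (powMonoidHom n : A →* A).range.relIndex X := by omega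
      have h6 : 2 * n ≤ (powMonoidHom n : A →* A).range.index := by
        rw [← h1]; exact Nat.mul_le_mul_right _ h5
      omega
    exact le_antisymm hle (Subgroup.relIndex_eq_one.1 h2)
  rw [← key X hX, key Y hY]

end Cfsg.Agent.H124.DM
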