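import Cfsg.Agent.H124.DM.Cover
import Cfsg.Agent.S2097

/-!
# Covers with centre of order two of `D_m(q)`, `m` even, `q` odd (helper124, S4907, DM28): assembly

* `card_ker` : `|ker β| |Z(G)| = |M(Q)|`;
* `iso_of_trans`, `iso_of_not` : the abstract assembly;
* `card_prU_ker` : the multiplier has order four.
-/

set_option autoImplicit false

namespace Cfsg.Agent.H124.DM

open Cfsg Function Cfsg.Agent.H487

universe u v u₁ u₂

section

variable {Q : Type u} [Group Q] {G : Type u₁} [Group G] {H : Type u₂} [Group H]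

theorem card_ker {β : UU Q →* G} {eG : G ⧸ Subgroup.center G ≃* Q} (hs : Surjective β)
    (h : (prj eG).comp β = prU Q) :
    Nat.card (Subgroup.center G) * Nat.card β.ker = Nat.card (prU Q).ker := by
  rw [← relIndex_ker hs h]
  have h1 := (β.ker.subgroupOf (prU Q).ker).index_mul_card
  rw [Nat.card_congr (Subgroup.subgroupOfEquivOfLe (ker_le h)).toEquiv] at h1
  exact h1

/-- a group isomorphic to a quotient of `UU Q` -/
theorem iso_of_quot {β : UU Q →* G} (hs : Surjective β) {A : Subgroup (UU Q)} [A.Normal] (hA : β.ker = A)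
    {X : Type*} [Group X] (e : Nonempty (UU Q ⧸ A ≃* X)) : Nonempty (G ≃* X) := by
  obtain ⟨e⟩ := e
  exact ⟨(QuotientGroup.quotientKerEquivOfSurjective β hs).symm.trans ((QuotientGroup.quotientMulEquivOfEq hA).trans e)⟩

theorem iso_of_map {β : UU Q →* G} {γ : UU Q →* H} (hβ : Surjective β) (hγ : Surjective γ) (φ : MulAut (UU Q))
    (h : β.ker.map φ.toMonoidHom = γ.ker) : Nonempty (G ≃* H) := by
  refine iso_of_map_ker hβ hγ φ ?_
  intro x
  rw [← h]
  constructor
  · intro hx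
    exact ⟨x, hx, rfl⟩
  · rintro ⟨y, hy, hyx⟩
    rwa [← φ.injective hyx]

/-- all subgroups of order two of the multiplier are conjugate -/
theorem iso_of_trans (h4 : Nat.card (prU Q).ker = 4)
    (htri : ∀ A B : Subgroup (UU Q), A ≤ (prU Q).ker → B ≤ (prU Q).ker → Nat.card A = 2 → Nat.card B = 2 →
      ∃ φ : MulAut (UU Q), A.map φ.toMonoidHom = B)
    (hG : commutator G = ⊤) (hH : commutator H = ⊤) (eG : G ⧸ Subgroup.center G ≃* Q)
    (eH : H ⧸ Subgroup.center H ≃* Q) (cG : Nat.card (Subgroup.center G) = 2)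
    (cH : Nat.card (Subgroup.center H) = 2) : Nonempty (G ≃* H) := by
  obtain ⟨β, hβs, hβ⟩ := exists_cov hG eG
  obtain ⟨γ, hγs, hγ⟩ := exists_cov hH eH
  have h1 := card_ker hβs hβ
  have h2 := card_ker hγs hγ
  rw [h4, cG] at h1
  rw [h4, cH] at h2
  obtain ⟨φ, hφ⟩ := htri β.ker γ.ker (ker_le hβ) (ker_le hγ) (by omega) (by omega)
  exact iso_of_map hβs hγs φ hφ

/-- all subgroups of order two except one are conjugate -/
theorem iso_of_not (h4 : Nat.card (prU Q).ker = 4) (A₀ : Subgroup (UU Q)) [A₀.Normal]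
    (hrefl : ∀ A B : Subgroup (UU Q), A ≤ (prU Q).ker → B ≤ (prU Q).ker → Nat.card A = 2 → Nat.card B = 2 →
      A ≠ A₀ → B ≠ A₀ → ∃ φ : MulAut (UU Q), A.map φ.toMonoidHom = B)
    (hG : commutator G = ⊤) (hH : commutator H = ⊤) (eG : G ⧸ Subgroup.center G ≃* Q)
    (eH : H ⧸ Subgroup.center H ≃* Q) (cG : Nat.card (Subgroup.center G) = 2)
    (cH : Nat.card (Subgroup.center H) = 2) {X : Type*} [Group X] (e : Nonempty (UU Q ⧸ A₀ ≃* X))
    (nG : ¬ Nonempty (G ≃* X)) (nH : ¬ Nonempty (H ≃* X)) : Nonempty (G ≃* H) := by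
  obtain ⟨β, hβs, hβ⟩ := exists_cov hG eG
  obtain ⟨γ, hγs, hγ⟩ := exists_cov hH eH
  have h1 := card_ker hβs hβ
  have h2 := card_ker hγs hγ
  rw [h4, cG] at h1
  rw [h4, cH] at h2
  obtain ⟨φ, hφ⟩ := hrefl β.ker γ.ker (ker_le hβ) (ker_le hγ) (by omega) (by omega)
    (fun h => nG (iso_of_quot hβs h e)) (fun h => nH (iso_of_quot hγs h e))
  exact iso_of_map hβs hγs φ hφ

end

theorem card_prU_ker {F : Type*} [Field F] [Fintype F] (ho : Odd (Fintype.card F)) {m : ℕ} (hm : 4 ≤ m) (hev : Even m) :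
    Nat.card (prU (POmega F (quadFormPlus m F))).ker = 4 := by
  have hfin : Finite (POmega F (quadFormPlus m F)) := inferInstance
  have h1 := S2097.result (F := F) rfl m hm hev (fun h => by
    rw [h.2] at ho
    exact absurd ho (by decide))
  have hg : Nat.gcd 2 ((Fintype.card F) ^ m - 1) = 2 :=
    Nat.gcd_eq_left (Nat.Odd.sub_odd ho.pow odd_one).two_dvd
  rw [hg] at h1
  obtain ⟨e1⟩ := nonempty_mulEquiv_MM h1
  obtain ⟨e2⟩ := nonempty_prU_ker (POmega F (quadFormPlus m F))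
  rw [← Nat.card_congr (e1.trans e2.symm).toEquiv, Nat.card_congr (Multiplicative.toAdd (α := ZMod 2 × ZMod 2)),
    Nat.card_prod, Nat.card_zmod]

end Cfsg.Agent.H124.DM
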