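import Cfsg.Agent.H124.DM.Cover

/-!
# Uniqueness of subgroups of the multiplier (helper124, S4907, DM18)
-/

set_option autoImplicit false

namespace Cfsg.Agent.H124.DM

open Cfsg Function Cfsg.Agent.H487

universe u v w u₁ u₂

/-- trivial centres -/
theorem iso_of_center_one {G : Type u₁} {H : Type u₂} [Group G] [Finite G] [Group H] [Finite H]
    (e : G ⧸ Subgroup.center G ≃* H ⧸ Subgroup.center H) (h1 : Nat.card (Subgroup.center G) = 1)
    (h2 : Nat.card (Subgroup.center H) = 1) : Nonempty (G ≃* H) := by
  have h3 : Subgroup.center G = ⊥ := Subgroup.eq_bot_of_card_eq _ h1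
  have h4 : Subgroup.center H = ⊥ := Subgroup.eq_bot_of_card_eq _ h2
  exact ⟨(QuotientGroup.quotientBot.symm.trans (QuotientGroup.quotientMulEquivOfEq h3.symm)).trans
    (e.trans ((QuotientGroup.quotientMulEquivOfEq h4).trans QuotientGroup.quotientBot))⟩

/-- uniqueness for cyclic groups -/
theorem unique_of_cyclic {A : Type v} [CommGroup A] [Finite A] [IsCyclic A] {n : ℕ} (X Y : Subgroup A)
    (hX : X.index = n) (hY : Y.index = n) : X = Y := by
  refine unique_of_pow ?_ X Y hX hY
  rw [IsCyclic.index_powMonoidHom_range]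
  exact Nat.gcd_le_right _ (by rw [← hX]; exact Nat.pos_of_ne_zero Subgroup.index_ne_zero_of_finite)

/-- uniqueness modulo a kernel of coprime order -/
theorem unique_of_surj {A : Type v} {B : Type w} [CommGroup A] [Finite A] [CommGroup B] [IsCyclic B] (f : A →* B)
    (hf : Surjective f) {n : ℕ} (hn : (Nat.card f.ker).Coprime n) (X Y : Subgroup A) (hX : X.index = n)
    (hY : Y.index = n) : X = Y := by
  have : Finite B := Finite.of_surjective f hf
  have key : ∀ X : Subgroup A, X.index = n → f.ker ≤ X := by
    intro X hX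
    have h1 : X.relIndex f.ker = 1 := by
      have h2 : X.relIndex f.ker ∣ Nat.card f.ker := Subgroup.relIndex_dvd_card X f.ker
      have h3 : X.relIndex f.ker ∣ n := by
        rw [← hX]
        exact Subgroup.relIndex_dvd_index_of_normal X f.ker
      exact Nat.eq_one_of_dvd_coprimes hn h2 h3
    exact Subgroup.relIndex_eq_one.1 h1
  have hX' := Subgroup.comap_map_eq_self (f := f) (key X hX)
  have hY' := Subgroup.comap_map_eq_self (f := f) (key Y hY)
  rw [← hX', ← hY']
  congr 1
  apply unique_of_cyclic (n := n)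
  · rw [← hX, ← Subgroup.index_comap_of_surjective _ hf, hX']
  · rw [← hY, ← Subgroup.index_comap_of_surjective _ hf, hY']

variable {Q : Type u} [Group Q] [Finite Q] {G : Type u₁} {H : Type u₂} [Group G] [Finite G] [Group H] [Finite H]

/-- cyclic multiplier -/
theorem iso_of_cyc {N : ℕ} [NeZero N] (hA : HasCyclicSchurMultiplier Q N) (hG : Cfsg.IsQuasisimple G)
    (hH : Cfsg.IsQuasisimple H) (eG : G ⧸ Subgroup.center G ≃* Q) (e : G ⧸ Subgroup.center G ≃* H ⧸ Subgroup.center H)
    (hc : Nat.card (Subgroup.center G) = Nat.card (Subgroup.center H)) : Nonempty (G ≃* H) :=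
  iso_of_mult hA hG hH eG (e.symm.trans eG) hc (fun X Y hX hY => unique_of_cyclic X Y hX hY)

/-- multiplier with a cyclic quotient and kernel of coprime order -/
theorem iso_of_proj {B C : Type} [AddCommGroup B] [AddCommGroup C] [Finite B] [Finite C] [IsAddCyclic B]
    (hA : HasSchurMultiplier Q (Multiplicative (B × C))) (hG : Cfsg.IsQuasisimple G)
    (hH : Cfsg.IsQuasisimple H) (eG : G ⧸ Subgroup.center G ≃* Q) (e : G ⧸ Subgroup.center G ≃* H ⧸ Subgroup.center H)
    (hc : Nat.card (Subgroup.center G) = Nat.card (Subgroup.center H))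
    (hcop : (Nat.card C).Coprime (Nat.card (Subgroup.center G))) : Nonempty (G ≃* H) := by
  have : IsCyclic (Multiplicative B) := inferInstance
  let f : Multiplicative (B × C) →* Multiplicative B := AddMonoidHom.toMultiplicative (AddMonoidHom.fst B C)
  have hf : Surjective f := fun b => ⟨Multiplicative.ofAdd (Multiplicative.toAdd b, 0), rfl⟩
  have hk : Nat.card f.ker = Nat.card C := by
    refine Nat.card_congr
      { toFun := fun x => (Multiplicative.toAdd x.1).2
        invFun := fun c => ⟨Multiplicative.ofAdd (0, c), rfl⟩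
        left_inv := ?_
        right_inv := fun c => rfl }
    rintro ⟨x, hx⟩
    apply Subtype.ext
    show Multiplicative.ofAdd ((0 : B), (Multiplicative.toAdd x).2) = x
    have h1 : (Multiplicative.toAdd x).1 = 0 := hx
    rw [← h1]
    rfl
  exact iso_of_mult hA hG hH eG (e.symm.trans eG) hc
    (fun X Y hX hY => unique_of_surj f hf (by rw [hk]; exact hcop) X Y hX hY)

end Cfsg.Agent.H124.DM
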